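import Mathlib.Algebra.Homology.DerivedCategory.ExactFunctor
import Mathlib.CategoryTheory.Abelian.SerreClass.Localization
import Mathlib.CategoryTheory.Localization.CalculusOfFractions.Fractions

/-!
# Lifting complexes from a Serre quotient
-/

set_option autoImplicit false
set_option linter.style.haveILetI false

universe v u v' u'

open CategoryTheory CategoryTheory.Limits

namespace Groth.Agent.H16Derived.SerreQuot

variable {A : Type u} [Category.{v} A] [Abelian A] (P : ObjectProperty A) [P.IsSerreClass]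
  {Q : Type u'} [Category.{v'} Q] [Abelian Q]
  (L : A ⥤ Q) [L.IsLocalization P.isoModSerre] [L.Additive] [PreservesFiniteLimits L] [PreservesFiniteColimits L]
  (K : CochainComplex Q ℤ)

/-- A lifted differential. -/
structure Pair (i j : ℤ) where
  X : A
  Y : A
  eX : L.obj X ≅ K.X i
  eY : L.obj Y ≅ K.X j
  f : X ⟶ Y
  comm : L.map f ≫ eY.hom = eX.hom ≫ K.d i j

include P in
lemma exists_obj (i : ℤ) : ∃ X : A, Nonempty (L.obj X ≅ K.X i) :=
  haveI := Localization.essSurj L P.isoModSerre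
  ⟨L.objPreimage (K.X i), ⟨L.objObjPreimageIso _⟩⟩

include P in
lemma exists_pair (i j : ℤ) : Nonempty (Pair L K i j) := by
  obtain ⟨X, ⟨eX⟩⟩ := exists_obj P L K i
  obtain ⟨Y, ⟨eY⟩⟩ := exists_obj P L K j
  obtain ⟨φ, hφ⟩ := Localization.exists_rightFraction L P.isoModSerre (eX.hom ≫ K.d i j ≫ eY.inv)
  haveI : IsIso (L.map φ.s) := Localization.inverts L P.isoModSerre φ.s φ.hs
  refine ⟨⟨φ.X', Y, asIso (L.map φ.s) ≪≫ eX, eY, φ.f, ?_⟩⟩
  rw [← φ.map_s_comp_map L (Localization.inverts L P.isoModSerre), ← hφ]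
  simp

include P in
lemma exists_left (h i j : ℤ) (s : Pair L K i j) :
    ∃ (W : A) (eW : L.obj W ≅ K.X h) (g : W ⟶ s.X), g ≫ s.f = 0 ∧ L.map g ≫ s.eX.hom = eW.hom ≫ K.d h i := by
  obtain ⟨X₀, ⟨e₀⟩⟩ := exists_obj P L K h
  obtain ⟨φ, hφ⟩ := Localization.exists_rightFraction L P.isoModSerre (e₀.hom ≫ K.d h i ≫ s.eX.inv)
  haveI : IsIso (L.map φ.s) := Localization.inverts L P.isoModSerre φ.s φ.hs
  have hf : L.map φ.f = L.map φ.s ≫ e₀.hom ≫ K.d h i ≫ s.eX.inv := by
    rw [← φ.map_s_comp_map L (Localization.inverts L P.isoModSerre), ← hφ]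
  have h0 : L.map (φ.f ≫ s.f) = 0 := by
    rw [← cancel_mono s.eY.hom, L.map_comp, Category.assoc, s.comm, hf]
    simp
  let S := ShortComplex.mk (kernel.ι (φ.f ≫ s.f)) (φ.f ≫ s.f) (kernel.condition _)
  haveI : IsIso (L.map (kernel.ι (φ.f ≫ s.f))) := by
    have hS : (S.map L).Exact := (ShortComplex.exact_of_f_is_kernel S (kernelIsKernel _)).map L
    haveI : Epi (S.map L).f := hS.epi_f h0
    haveI : Epi (L.map (kernel.ι (φ.f ≫ s.f))) := ‹_›
    exact isIso_of_mono_of_epi _
  refine ⟨kernel (φ.f ≫ s.f), asIso (L.map (kernel.ι (φ.f ≫ s.f))) ≪≫ asIso (L.map φ.s) ≪≫ e₀,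
    kernel.ι (φ.f ≫ s.f) ≫ φ.f, by rw [Category.assoc, kernel.condition], ?_⟩
  rw [L.map_comp, hf]
  simp

include P in
lemma exists_right (i j k : ℤ) (s : Pair L K i j) :
    ∃ (W : A) (eW : L.obj W ≅ K.X k) (g : s.Y ⟶ W), s.f ≫ g = 0 ∧ L.map g ≫ eW.hom = s.eY.hom ≫ K.d j k := by
  obtain ⟨X₀, ⟨e₀⟩⟩ := exists_obj P L K k
  obtain ⟨φ, hφ⟩ := Localization.exists_leftFraction L P.isoModSerre (s.eY.hom ≫ K.d j k ≫ e₀.inv)
  haveI : IsIso (L.map φ.s) := Localization.inverts L P.isoModSerre φ.s φ.hs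
  have hf : L.map φ.f = (s.eY.hom ≫ K.d j k ≫ e₀.inv) ≫ L.map φ.s := by
    rw [← φ.map_comp_map_s L (Localization.inverts L P.isoModSerre), ← hφ]
  have h0 : L.map (s.f ≫ φ.f) = 0 := by
    rw [L.map_comp, hf, ← Category.assoc, ← Category.assoc, s.comm]
    simp
  let S := ShortComplex.mk (s.f ≫ φ.f) (cokernel.π (s.f ≫ φ.f)) (cokernel.condition _)
  haveI : IsIso (L.map (cokernel.π (s.f ≫ φ.f))) := by
    have hS : (S.map L).Exact := (ShortComplex.exact_of_g_is_cokernel S (cokernelIsCokernel _)).map L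
    haveI : Mono (S.map L).g := hS.mono_g h0
    haveI : Mono (L.map (cokernel.π (s.f ≫ φ.f))) := ‹_›
    exact isIso_of_mono_of_epi _
  refine ⟨cokernel (s.f ≫ φ.f), (asIso (L.map φ.s) ≪≫ asIso (L.map (cokernel.π (s.f ≫ φ.f)))).symm ≪≫ e₀,
    φ.f ≫ cokernel.π (s.f ≫ φ.f), by rw [← Category.assoc, cokernel.condition], ?_⟩
  rw [L.map_comp, hf]
  simp

/-- Step to the left. -/
noncomputable def left (h i j : ℤ) (s : Pair L K i j) : Pair L K h i where
  X := (exists_left P L K h i j s).choose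
  Y := s.X
  eX := (exists_left P L K h i j s).choose_spec.choose
  eY := s.eX
  f := (exists_left P L K h i j s).choose_spec.choose_spec.choose
  comm := (exists_left P L K h i j s).choose_spec.choose_spec.choose_spec.2

lemma left_comp (h i j : ℤ) (s : Pair L K i j) : (left P L K h i j s).f ≫ s.f = 0 :=
  (exists_left P L K h i j s).choose_spec.choose_spec.choose_spec.1

/-- Step to the right. -/
noncomputable def right (i j k : ℤ) (s : Pair L K i j) : Pair L K j k where
  X := s.Y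
  Y := (exists_right P L K i j k s).choose
  eX := s.eY
  eY := (exists_right P L K i j k s).choose_spec.choose
  f := (exists_right P L K i j k s).choose_spec.choose_spec.choose
  comm := (exists_right P L K i j k s).choose_spec.choose_spec.choose_spec.2

lemma right_comp (i j k : ℤ) (s : Pair L K i j) : s.f ≫ (right P L K i j k s).f = 0 :=
  (exists_right P L K i j k s).choose_spec.choose_spec.choose_spec.1

/-- Nonnegative degrees. -/
noncomputable def up : ∀ k : ℕ, Pair L K (k : ℤ) ((k + 1 : ℕ) : ℤ)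
  | 0 => (exists_pair P L K _ _).some
  | k + 1 => right P L K (k : ℤ) ((k + 1 : ℕ) : ℤ) ((k + 1 + 1 : ℕ) : ℤ) (up k)

/-- The upper degree of a negative step. -/
def tgt : ℕ → ℤ
  | 0 => ((0 : ℕ) : ℤ)
  | k + 1 => Int.negSucc k

/-- Negative degrees. -/
noncomputable def down : ∀ k : ℕ, Pair L K (Int.negSucc k) (tgt k)
  | 0 => left P L K _ _ _ (up P L K 0)
  | k + 1 => left P L K _ _ _ (down k)

/-- The lifted terms. -/
noncomputable def X : ℤ → A
  | Int.ofNat k => (up P L K k).X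
  | Int.negSucc k => (down P L K k).X

/-- The comparison. -/
noncomputable def e : ∀ i, L.obj (X P L K i) ≅ K.X i
  | Int.ofNat k => (up P L K k).eX
  | Int.negSucc k => (down P L K k).eX

/-- The lifted differential. -/
noncomputable def d : ∀ i : ℤ, X P L K i ⟶ X P L K (i + 1)
  | Int.ofNat k => (up P L K k).f
  | Int.negSucc 0 => (down P L K 0).f
  | Int.negSucc (k + 1) => (down P L K (k + 1)).f

lemma d_d : ∀ i : ℤ, d P L K i ≫ d P L K (i + 1) = 0
  | Int.ofNat k => right_comp P L K (k : ℤ) ((k + 1 : ℕ) : ℤ) ((k + 1 + 1 : ℕ) : ℤ) (up P L K k)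
  | Int.negSucc 0 => left_comp P L K _ _ _ (up P L K 0)
  | Int.negSucc 1 => left_comp P L K _ _ _ (down P L K 0)
  | Int.negSucc (k + 2) => left_comp P L K _ _ _ (down P L K (k + 1))

lemma d_comm : ∀ i : ℤ, (e P L K i).hom ≫ K.d i (i + 1) = L.map (d P L K i) ≫ (e P L K (i + 1)).hom
  | Int.ofNat k => (up P L K k).comm.symm
  | Int.negSucc 0 => (down P L K 0).comm.symm
  | Int.negSucc (k + 1) => (down P L K (k + 1)).comm.symm

include P in
theorem exists_lift : ∃ M : CochainComplex A ℤ, Nonempty ((L.mapHomologicalComplex (ComplexShape.up ℤ)).obj M ≅ K) := by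
  refine ⟨CochainComplex.of (X P L K) (d P L K) (d_d P L K),
    ⟨HomologicalComplex.Hom.isoOfComponents (e P L K) fun i j (h : i + 1 = j) => ?_⟩⟩
  subst h
  show (e P L K i).hom ≫ K.d i (i + 1) = L.map ((CochainComplex.of _ _ (d_d P L K)).d i (i + 1)) ≫ _
  refine (d_comm P L K i).trans (congrArg (fun z => L.map z ≫ _) ?_)
  simp [CochainComplex.of]

include P in
theorem essSurj_mapDerivedCategory [HasDerivedCategory A] [HasDerivedCategory Q] :
    L.mapDerivedCategory.EssSurj where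
  mem_essImage Y := by
    obtain ⟨M, ⟨i⟩⟩ := exists_lift P L (DerivedCategory.Q.objPreimage Y)
    exact ⟨DerivedCategory.Q.obj M, ⟨L.mapDerivedCategoryFactors.app M ≪≫ DerivedCategory.Q.mapIso i ≪≫
      DerivedCategory.Q.objObjPreimageIso Y⟩⟩

end Groth.Agent.H16Derived.SerreQuot
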