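import Groth.Agent.H16Derived.SerreQuot.EssSurj
import Mathlib.Algebra.Homology.DerivedCategory.Fractions
import Mathlib.Algebra.Homology.ShortComplex.PreservesHomology
import Mathlib.CategoryTheory.Adjunction.Additive
import Mathlib.CategoryTheory.Adjunction.FullyFaithful
import Mathlib.CategoryTheory.Localization.Adjunction
import Mathlib.CategoryTheory.Localization.Composition
import Mathlib.CategoryTheory.Triangulated.Subcategory

/-!
# `D(A/P)` as a Verdier quotient of `D(A)`
-/

set_option autoImplicit false
set_option linter.style.haveILetI false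
set_option linter.unusedSectionVars false

universe w w' v u v' u'

open CategoryTheory CategoryTheory.Limits

namespace Groth.Agent.H16Derived.SerreQuot

variable {A : Type u} [Category.{v} A] [Abelian A] {Q : Type u'} [Category.{v'} Q] [Abelian Q]
  {u : Q ⥤ A} {L : A ⥤ Q} (adj : u ⊣ L) [L.Additive]

/-- The adjunction on cochain complexes. -/
noncomputable def cxAdj [u.Additive] :
    u.mapHomologicalComplex (ComplexShape.up ℤ) ⊣ L.mapHomologicalComplex (ComplexShape.up ℤ) where
  unit :=
    { app := fun K =>
        { f := fun i => adj.unit.app (K.X i)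
          comm' := fun i j _ => (adj.unit.naturality (K.d i j)).symm }
      naturality := fun K M f => by ext i; exact adj.unit.naturality (f.f i) }
  counit :=
    { app := fun K =>
        { f := fun i => adj.counit.app (K.X i)
          comm' := fun i j _ => (adj.counit.naturality (K.d i j)).symm }
      naturality := fun K M f => by ext i; exact adj.counit.naturality (f.f i) }
  left_triangle_components K := by ext i; exact adj.left_triangle_components (K.X i)
  right_triangle_components K := by ext i; exact adj.right_triangle_components (K.X i)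

variable (P : ObjectProperty A) [P.IsSerreClass] [L.IsLocalization P.isoModSerre]
  [PreservesFiniteLimits L] [PreservesFiniteColimits L]
  [HasDerivedCategory.{w} A] [HasDerivedCategory.{w'} Q]

lemma isZero_derived_iff {C : Type u} [Category.{v} C] [Abelian C] [HasDerivedCategory.{w} C]
    (X : DerivedCategory C) : IsZero X ↔ ∀ n, IsZero ((DerivedCategory.homologyFunctor C n).obj X) := by
  refine ⟨fun h n => Functor.map_isZero _ h, fun h => ?_⟩
  obtain ⟨O, hO⟩ := HasZeroObject.zero (C := DerivedCategory C)
  have : IsIso (0 : X ⟶ O) := (DerivedCategory.isIso_iff C (0 : X ⟶ O)).2 fun n =>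
    ⟨0, (h n).eq_of_src _ _, (Functor.map_isZero _ hO).eq_of_src _ _⟩
  exact hO.of_iso (asIso (0 : X ⟶ O))

lemma isZero_map_iff (X : DerivedCategory A) :
    IsZero (L.mapDerivedCategory.obj X) ↔ ∀ n, P ((DerivedCategory.homologyFunctor A n).obj X) := by
  obtain ⟨K, ⟨e⟩⟩ : ∃ K, Nonempty (DerivedCategory.Q.obj K ≅ X) :=
    ⟨_, ⟨DerivedCategory.Q.objObjPreimageIso X⟩⟩
  have hP : ∀ n, P ((DerivedCategory.homologyFunctor A n).obj X) ↔ IsZero (L.obj (K.homology n)) := fun n => by
    rw [ObjectProperty.SerreClassLocalization.isZero_obj_iff L P]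
    exact P.prop_iff_of_iso ((DerivedCategory.homologyFunctor A n).mapIso e.symm ≪≫
      (DerivedCategory.homologyFunctorFactors A n).app K)
  rw [isZero_derived_iff]
  refine forall_congr' fun n => ?_
  rw [hP]
  exact ((DerivedCategory.homologyFunctor Q n).mapIso (L.mapDerivedCategory.mapIso e.symm ≪≫
      L.mapDerivedCategoryFactors.app K) ≪≫
    (DerivedCategory.homologyFunctorFactors Q n).app _ ≪≫ (K.sc n).mapHomologyIso L).isZero_iff

lemma trW_iff_isIso {X Y : DerivedCategory A} (f : X ⟶ Y) :
    ObjectProperty.trW (fun X : DerivedCategory A => ∀ n : ℤ, P ((DerivedCategory.homologyFunctor A n).obj X)) f ↔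
      IsIso (L.mapDerivedCategory.map f) := by
  constructor
  · rintro ⟨Z, g, h, hT, hZ⟩
    exact ((L.mapDerivedCategory.mapTriangle.obj _).isZero₃_iff_isIso₁
      (L.mapDerivedCategory.map_distinguished _ hT)).1 ((isZero_map_iff P Z).2 hZ)
  · intro hf
    obtain ⟨Z, g, h, hT⟩ := Pretriangulated.distinguished_cocone_triangle f
    exact ⟨Z, g, h, hT, (isZero_map_iff P Z).1
      (((L.mapDerivedCategory.mapTriangle.obj _).isZero₃_iff_isIso₁
        (L.mapDerivedCategory.map_distinguished _ hT)).2 hf)⟩

include adj in
theorem isLocalization_mapDerivedCategory [IsIso adj.unit] :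
    L.mapDerivedCategory.IsLocalization
      (ObjectProperty.trW (fun X : DerivedCategory A => ∀ n : ℤ, P ((DerivedCategory.homologyFunctor A n).obj X))) := by
  haveI : u.Additive := adj.left_adjoint_additive
  let F := u.mapHomologicalComplex (ComplexShape.up ℤ)
  let G := L.mapHomologicalComplex (ComplexShape.up ℤ)
  haveI : ∀ K, IsIso ((cxAdj adj).unit.app K) := fun K =>
    haveI : ∀ i, IsIso (((cxAdj adj).unit.app K).f i) := fun i => inferInstanceAs (IsIso (adj.unit.app (K.X i)))
    HomologicalComplex.Hom.isIso_of_components _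
  haveI : IsIso (cxAdj adj).unit := NatIso.isIso_of_isIso_app _
  haveI : F.Full := (cxAdj adj).fullyFaithfulLOfIsIsoUnit.full
  haveI : F.Faithful := (cxAdj adj).fullyFaithfulLOfIsIsoUnit.faithful
  haveI : G.IsLocalization ((MorphismProperty.isomorphisms _).inverseImage G) := (cxAdj adj).isLocalization'
  let W₃ : MorphismProperty (CochainComplex A ℤ) :=
    (MorphismProperty.isomorphisms _).inverseImage (G ⋙ DerivedCategory.Q)
  haveI : (G ⋙ DerivedCategory.Q).IsLocalization W₃ := by
    refine Functor.IsLocalization.comp G DerivedCategory.Q ((MorphismProperty.isomorphisms _).inverseImage G)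
      (HomologicalComplex.quasiIso Q (ComplexShape.up ℤ)) W₃ (fun _ _ f hf => hf) (fun X Y f hf => ?_)
      (fun X Y f hf => ?_)
    · haveI : IsIso (G.map f) := hf
      exact inferInstanceAs (IsIso (DerivedCategory.Q.map (G.map f)))
    · let e : Arrow.mk (G.map (F.map f)) ≅ Arrow.mk f :=
        Arrow.isoMk (asIso ((cxAdj adj).unit.app X)).symm (asIso ((cxAdj adj).unit.app Y)).symm (by
          show inv ((cxAdj adj).unit.app X) ≫ f = G.map (F.map f) ≫ inv ((cxAdj adj).unit.app Y)
          rw [IsIso.inv_comp_eq, ← Category.assoc, IsIso.eq_comp_inv]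
          exact (cxAdj adj).unit.naturality f)
      refine ⟨F.obj X, F.obj Y, F.map f, ?_, ⟨e⟩⟩
      show IsIso (DerivedCategory.Q.map (G.map (F.map f)))
      exact ((MorphismProperty.isomorphisms _).arrow_mk_iso_iff (DerivedCategory.Q.mapArrow.mapIso e)).2
        (Localization.inverts DerivedCategory.Q (HomologicalComplex.quasiIso Q (ComplexShape.up ℤ)) f hf)
  haveI : (DerivedCategory.Q ⋙ L.mapDerivedCategory).IsLocalization W₃ :=
    Functor.IsLocalization.of_iso W₃ L.mapDerivedCategoryFactors.symm
  refine Functor.IsLocalization.of_comp DerivedCategory.Q L.mapDerivedCategory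
    (HomologicalComplex.quasiIso A (ComplexShape.up ℤ)) _ W₃ (fun X Y f hf => ?_) ?_
  · haveI : IsIso (DerivedCategory.Q.map f) :=
      Localization.inverts DerivedCategory.Q (HomologicalComplex.quasiIso A (ComplexShape.up ℤ)) f hf
    exact (NatIso.isIso_map_iff L.mapDerivedCategoryFactors f).1
      (inferInstanceAs (IsIso (L.mapDerivedCategory.map (DerivedCategory.Q.map f))))
  · have hW₃ : ∀ {K M : CochainComplex A ℤ} (g : K ⟶ M),
        W₃ g ↔ IsIso (L.mapDerivedCategory.map (DerivedCategory.Q.map g)) :=
      fun g => (NatIso.isIso_map_iff L.mapDerivedCategoryFactors g).symm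
    ext X Y f
    rw [trW_iff_isIso (L := L)]
    constructor
    · intro hf
      obtain ⟨X', s, hs, g, hg⟩ := DerivedCategory.right_fac
        ((DerivedCategory.Q.objObjPreimageIso X).hom ≫ f ≫ (DerivedCategory.Q.objObjPreimageIso Y).inv)
      haveI := hs
      let e : Arrow.mk (DerivedCategory.Q.map g) ≅ Arrow.mk f :=
        Arrow.isoMk (asIso (DerivedCategory.Q.map s) ≪≫ DerivedCategory.Q.objObjPreimageIso X)
          (DerivedCategory.Q.objObjPreimageIso Y) (by
            have hg' := congrArg (fun z => DerivedCategory.Q.map s ≫ z ≫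
              (DerivedCategory.Q.objObjPreimageIso Y).hom) hg
            simpa using hg')
      refine ⟨_, _, g, (hW₃ g).2 ?_, ⟨e⟩⟩
      exact ((MorphismProperty.isomorphisms _).arrow_mk_iso_iff (L.mapDerivedCategory.mapArrow.mapIso e)).2 hf
    · rintro ⟨_, _, g, hg, ⟨e⟩⟩
      exact ((MorphismProperty.isomorphisms _).arrow_mk_iso_iff (L.mapDerivedCategory.mapArrow.mapIso e)).1 ((hW₃ g).1 hg)

end Groth.Agent.H16Derived.SerreQuot
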